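import Mathlib
import Groth.Agent.CAlgBasics.MittagLefflerApps

/-!
# Countably generated flat Mittag-Leffler modules are projective
-/

universe u

open TensorProduct

set_option linter.style.haveILetI false

namespace Groth.Agent.MLProjLib

variable {R : Type u} [CommRing R]

theorem isMittagLeffler_of_projective (M : Type u) [AddCommGroup M] [Module R M]
    [Module.Projective R M] : CAlg.IsMittagLeffler R M := by
  classical
  obtain ⟨i, hi⟩ := Module.projective_def'.mp ‹Module.Projective R M›
  intro ι Q _ _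
  refine (injective_iff_map_eq_zero _).mpr fun x hx => ?_
  have h0 : i.rTensor (∀ k, Q k) x = 0 := by
    apply (TensorProduct.finsuppScalarLeft R (∀ k, Q k) M).injective
    rw [map_zero]
    refine Finsupp.ext fun m => ?_
    let φ : M →ₗ[R] R := Finsupp.lapply m ∘ₗ i
    have h1 : φ.rTensor (∀ k, Q k) x = 0 :=
      (injective_iff_map_eq_zero _).mp (CAlgBasics.piRightHom_injective R Q) _ <| funext fun k => by
        rw [CAlgBasics.piRightHom_rTensor, hx]; simp
    have h2 := congrArg (TensorProduct.lid R (∀ k, Q k)) h1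
    rw [map_zero] at h2
    rw [Finsupp.zero_apply, ← h2]
    clear hx h1 h2
    induction x with
    | zero => simp
    | tmul a b => simp [φ, TensorProduct.finsuppScalarLeft_apply_tmul_apply]
    | add a b ha hb => simp only [map_add, Finsupp.add_apply, ha, hb]
  have := congrArg ((Finsupp.linearCombination R id).rTensor (∀ k, Q k)) h0
  rw [← LinearMap.rTensor_comp_apply, hi, LinearMap.rTensor_id, map_zero] at this
  simpa using this

variable {M : Type u} [AddCommGroup M] [Module R M]

/-- A finite free stage mapping to `M`. -/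
structure Stage (R : Type u) [CommRing R] (M : Type u) [AddCommGroup M] [Module R M] : Type u where
  n : ℕ
  c : (Fin n →₀ R) →ₗ[R] M

theorem exists_next (hM : CAlg.IsMittagLeffler R M) [Module.Flat R M] (S : Stage R M) (x : M) :
    ∃ (S' : Stage R M) (h : (Fin S.n →₀ R) →ₗ[R] (Fin S'.n →₀ R)),
      S'.c ∘ₗ h = S.c ∧ x ∈ LinearMap.range S'.c ∧
      ∀ (T : Type u) [AddCommGroup T] [Module R T],
        LinearMap.ker (S.c.rTensor T) = LinearMap.ker (h.rTensor T) := by
  let f : (Fin S.n →₀ R) × R →ₗ[R] M := S.c.coprod (LinearMap.toSpanSingleton R M x)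
  have : Module.FinitePresentation R ((Fin S.n →₀ R) × R) := Module.finitePresentation_of_projective R _
  obtain ⟨Q, _, _, _, g, c, hcg, hg⟩ := CAlgBasics.exists_factor_sameKer hM f
  obtain ⟨k, h₂, h₃, hc⟩ := Module.Flat.exists_factorization_of_finitePresentation c
  have hf : h₃ ∘ₗ (h₂ ∘ₗ g) = f := by rw [← LinearMap.comp_assoc, ← hc, hcg]
  refine ⟨⟨k, h₃⟩, (h₂ ∘ₗ g) ∘ₗ LinearMap.inl R _ _, ?_, ?_, fun T _ _ => ?_⟩
  · rw [← LinearMap.comp_assoc, hf, LinearMap.coprod_inl]
  · exact ⟨h₂ (g (0, 1)), by rw [show h₃ (h₂ (g (0, 1))) = f (0, 1) from LinearMap.congr_fun hf _]; simp [f]⟩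
  · have key : LinearMap.ker (f.rTensor T) = LinearMap.ker ((h₂ ∘ₗ g).rTensor T) := by
      refine le_antisymm ?_ ?_
      · rw [hg T, LinearMap.rTensor_comp]
        exact LinearMap.ker_le_ker_comp _ _
      · intro z hz
        rw [LinearMap.mem_ker] at hz ⊢
        rw [← hf, LinearMap.rTensor_comp_apply, hz, map_zero]
    have := CAlgBasics.ker_rTensor_comp_eq (LinearMap.inl R _ _) f (h₂ ∘ₗ g) key
    rwa [LinearMap.coprod_inl] at this

/-- A countably generated flat Mittag-Leffler module is projective. -/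
theorem projective_of_countablyGenerated (hM : CAlg.IsMittagLeffler R M) [Module.Flat R M]
    (hc : CAlg.IsCountablyGenerated R M) : Module.Projective R M := by
  classical
  obtain ⟨s, hs, hspan⟩ := hc
  obtain ⟨x, hx⟩ := (hs.insert 0).exists_eq_range (Set.insert_nonempty _ _)
  choose next hmap hcomp hmem hker using exists_next (R := R) hM
  let S : ℕ → Stage R M := Nat.rec ⟨0, 0⟩ fun k T => next T (x k)
  let h : ∀ k, (Fin (S k).n →₀ R) →ₗ[R] (Fin (S (k + 1)).n →₀ R) := fun k => hmap (S k) (x k)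
  have hch : ∀ k, (S (k + 1)).c ∘ₗ h k = (S k).c := fun k => hcomp _ _
  have hK : ∀ (k : ℕ) (T : Type u) [AddCommGroup T] [Module R T],
      LinearMap.ker ((S k).c.rTensor T) = LinearMap.ker ((h k).rTensor T) := fun k T _ _ => hker (S k) (x k) T
  have hψ : ∀ k, ∃ ψ : (Fin (S (k + 2)).n →₀ R) →ₗ[R] (Fin (S (k + 1)).n →₀ R),
      h k = ψ ∘ₗ (h (k + 1) ∘ₗ h k) := by
    intro k
    have : Module.FinitePresentation R
        ((Fin (S (k + 2)).n →₀ R) ⧸ LinearMap.range (h (k + 1) ∘ₗ h k)) :=
      haveI := Module.finitePresentation_of_projective R (Fin (S (k + 2)).n →₀ R)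
      Module.finitePresentation_of_surjective (LinearMap.range (h (k + 1) ∘ₗ h k)).mkQ
        (Submodule.mkQ_surjective _)
        (by rw [Submodule.ker_mkQ, LinearMap.range_eq_map]; exact Module.Finite.fg_top.map _)
    refine CAlgBasics.exists_comp_eq_of_dominates _ _ fun T _ _ => ?_
    intro z hz
    rw [LinearMap.mem_ker] at hz
    rw [← hK k T, LinearMap.mem_ker, ← hch k, ← hch (k + 1), LinearMap.comp_assoc,
      LinearMap.rTensor_comp_apply, hz, map_zero]
  choose ψ hψ using hψ
  let π : (M →₀ R) →ₗ[R] M := Finsupp.linearCombination R id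
  have hπ : Function.Surjective π := fun m => ⟨Finsupp.single m 1, by simp [π]⟩
  choose lift hlift using fun k => Module.projective_lifting_property π (S k).c hπ
  let w : ∀ k, (Fin (S (k + 1)).n →₀ R) →ₗ[R] (M →₀ R) :=
    Nat.rec (lift 1) fun k wk => lift (k + 2) + (wk - lift (k + 2) ∘ₗ h (k + 1)) ∘ₗ ψ k
  have hw : ∀ k, π ∘ₗ w k = (S (k + 1)).c := by
    intro k
    induction k with
    | zero => exact hlift 1
    | succ k ih =>
      show π ∘ₗ (lift (k + 2) + (w k - lift (k + 2) ∘ₗ h (k + 1)) ∘ₗ ψ k) = _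
      have h2 : π ∘ₗ (w k - lift (k + 2) ∘ₗ h (k + 1)) = 0 := by
        rw [LinearMap.comp_sub, ih, ← LinearMap.comp_assoc, hlift, sub_eq_zero]
        exact (hch (k + 1)).symm
      rw [LinearMap.comp_add, hlift, ← LinearMap.comp_assoc, h2, LinearMap.zero_comp, add_zero]
  let σ : ∀ k, (Fin (S k).n →₀ R) →ₗ[R] (M →₀ R) := fun k => w k ∘ₗ h k
  have hσ : ∀ k y, σ (k + 1) (h k y) = σ k y := by
    intro k y
    show w (k + 1) (h (k + 1) (h k y)) = w k (h k y)
    show (lift (k + 2) + (w k - lift (k + 2) ∘ₗ h (k + 1)) ∘ₗ ψ k) (h (k + 1) (h k y)) = _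
    have : ψ k (h (k + 1) (h k y)) = h k y := (LinearMap.congr_fun (hψ k) y).symm
    simp [this]
  have hker0 : ∀ k y, (S k).c y = 0 → σ k y = 0 := by
    intro k y hy
    have h1 : (h k).rTensor R (y ⊗ₜ[R] (1 : R)) = 0 := by
      rw [← LinearMap.mem_ker, ← hK k R, LinearMap.mem_ker, LinearMap.rTensor_tmul, hy, zero_tmul]
    have h2 := congrArg (TensorProduct.rid R _) h1
    simp only [LinearMap.rTensor_tmul, TensorProduct.rid_tmul, one_smul, map_zero] at h2
    show w k (h k y) = 0
    rw [h2, map_zero]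
  have hpush : ∀ k l, k ≤ l → ∀ y, ∃ y', (S l).c y' = (S k).c y ∧ σ l y' = σ k y := by
    intro k l hkl y
    induction hkl with
    | refl => exact ⟨y, rfl, rfl⟩
    | @step l _ ih =>
      obtain ⟨y', h1, h2⟩ := ih
      exact ⟨h l y', (LinearMap.congr_fun (hch l) y').trans h1, (hσ l y').trans h2⟩
  have hwd : ∀ k l y z, (S k).c y = (S l).c z → σ k y = σ l z := by
    intro k l y z hyz
    obtain ⟨y', hy1, hy2⟩ := hpush k (max k l) (le_max_left _ _) y
    obtain ⟨z', hz1, hz2⟩ := hpush l (max k l) (le_max_right _ _) z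
    rw [← hy2, ← hz2, ← sub_eq_zero, ← map_sub]
    exact hker0 _ _ (by rw [map_sub, hy1, hz1, hyz, sub_self])
  have hex : ∀ m : M, ∃ k y, (S k).c y = m := by
    intro m
    have hmono : Monotone fun k => LinearMap.range (S k).c := monotone_nat_of_le_succ fun k => by
      rw [← hch k]; exact LinearMap.range_comp_le_range _ _
    have : m ∈ ⨆ k, LinearMap.range (S k).c := by
      refine (Submodule.span_le.mpr ?_) (hspan ▸ Submodule.mem_top : m ∈ Submodule.span R s)
      intro z hz
      obtain ⟨k, rfl⟩ : z ∈ Set.range x := hx ▸ Set.mem_insert_of_mem _ hz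
      exact Submodule.mem_iSup_of_mem (k + 1) (hmem (S k) (x k))
    obtain ⟨k, y, hy⟩ := (Submodule.mem_iSup_of_directed _ hmono.directed_le).mp this
    exact ⟨k, y, hy⟩
  choose K Y hY using hex
  let sec : M →ₗ[R] (M →₀ R) :=
    { toFun := fun m => σ (K m) (Y m)
      map_add' := fun a b => by
        obtain ⟨a', ha1, ha2⟩ := hpush (K a) (max (K a) (K b)) (le_max_left _ _) (Y a)
        obtain ⟨b', hb1, hb2⟩ := hpush (K b) (max (K a) (K b)) (le_max_right _ _) (Y b)
        rw [← ha2, ← hb2, ← map_add]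
        exact hwd _ _ _ _ (by rw [hY, map_add, ha1, hb1, hY, hY])
      map_smul' := fun r a => by
        simp only [RingHom.id_apply]
        rw [← map_smul]
        exact hwd _ _ _ _ (by rw [hY, map_smul, hY]) }
  refine Module.Projective.of_split sec π (LinearMap.ext fun m => ?_)
  show π (w (K m) (h (K m) (Y m))) = m
  exact (LinearMap.congr_fun (hw _) _).trans ((LinearMap.congr_fun (hch _) _).trans (hY m))

end Groth.Agent.MLProjLib
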