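import Mathlib
import Groth.Agent.KaplanskyLib.Free
import Groth.Agent.MLProjLib.Countable
import Groth.Agent.S0586

/-!
# Projectivity: Kaplansky dévissage and faithfully flat descent
-/

universe u

open TensorProduct Submodule DirectSum
open Groth.Agent.KaplanskyLib
open scoped Classical

set_option linter.style.haveILetI false

namespace Groth.Agent.MLProjLib

variable {R : Type u} [CommRing R]

theorem isCountablyGenerated_coe {M : Type u} [AddCommGroup M] [Module R M] {L : Submodule R M}
    (hL : CG L) : CAlg.IsCountablyGenerated R L := by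
  obtain ⟨s, hs, hspan⟩ := hL
  refine ⟨Subtype.val ⁻¹' s, hs.preimage Subtype.val_injective, ?_⟩
  refine map_injective_of_injective L.injective_subtype ?_
  rw [map_span, Submodule.map_top, range_subtype, ← hspan]
  exact congrArg _ (Set.image_preimage_eq_of_subset (by
    intro x hx; exact ⟨⟨x, hspan ▸ subset_span hx⟩, rfl⟩))

/-- A projective module is an internal direct sum of countably generated submodules. -/
theorem exists_isInternal_of_projective (P : Type u) [AddCommGroup P] [Module R P]
    [Module.Projective R P] : ∃ (κ : Type u) (L : κ → Submodule R P),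
      DirectSum.IsInternal L ∧ ∀ k, CAlg.IsCountablyGenerated R (L k) := by
  obtain ⟨i, hi⟩ := Module.projective_def'.mp ‹Module.Projective R P›
  let s : (P →₀ R) →ₗ[R] P := Finsupp.linearCombination R id
  have hsi : ∀ p, s (i p) = p := fun p => LinearMap.congr_fun hi p
  let N : P → Submodule R (P →₀ R) := fun p => LinearMap.range (Finsupp.lsingle p)
  have hN : DirectSum.IsInternal N :=
    DirectSum.isInternal_submodule_of_iSupIndep_of_iSup_eq_top
      (iSupIndep_range_lsingle P R R) (Finsupp.iSup_lsingle_range)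
  have hc : ∀ p, CAlg.IsCountablyGenerated R (N p) := fun p => by
    refine ⟨{⟨Finsupp.single p 1, 1, rfl⟩}, Set.countable_singleton _, ?_⟩
    refine eq_top_iff'.mpr ?_
    rintro ⟨_, c, rfl⟩
    exact mem_span_singleton.mpr ⟨c, Subtype.ext (by simp [Finsupp.smul_single])⟩
  have hcompl : IsCompl (LinearMap.range i) (LinearMap.ker s) :=
    ⟨disjoint_def.mpr (by rintro _ ⟨p, rfl⟩ hp; rw [LinearMap.mem_ker, hsi] at hp; rw [hp, map_zero]),
      codisjoint_iff.mpr (eq_top_iff'.mpr fun z => mem_sup.mpr
        ⟨i (s z), ⟨_, rfl⟩, z - i (s z), by rw [LinearMap.mem_ker, map_sub, hsi, sub_self],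
          add_sub_cancel _ _⟩)⟩
  obtain ⟨κ, L, hL, hLc⟩ := exists_isInternal N hN hc _ _ hcompl
  let e : LinearMap.range i ≃ₗ[R] P :=
    (LinearEquiv.ofInjective i (fun a b h => by rw [← hsi a, h, hsi])).symm
  refine ⟨κ, fun k => (L k).map (e : LinearMap.range i →ₗ[R] P), ?_, fun k => ?_⟩
  · refine @isInternal_submodule_of_iSupIndep_of_iSup_eq_top _ _ _ (fun a b => Classical.propDecidable (a = b)) _ _ _ _
      ((hL.submodule_iSupIndep).map_orderIso (Submodule.orderIsoMapComap e)) ?_
    rw [← Submodule.map_iSup, hL.submodule_iSup_eq_top, Submodule.map_top, LinearEquiv.range]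
  · obtain ⟨t, ht, hspan⟩ := hLc k
    refine isCountablyGenerated_coe ?_
    have : CG (L k) := ⟨(L k).subtype '' t, ht.image _, by
      rw [← map_span, hspan, Submodule.map_top, range_subtype]⟩
    obtain ⟨u, hu, huspan⟩ := this
    exact ⟨e '' u, hu.image e, by
      show _ = (L k).map (e : LinearMap.range i →ₗ[R] P)
      rw [← huspan, map_span]; rfl⟩

/-- An internal direct sum of projective submodules is projective. -/
theorem projective_of_isInternal {M : Type u} [AddCommGroup M] [Module R M] {κ : Type u}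
    {L : κ → Submodule R M} (hL : DirectSum.IsInternal L) (h : ∀ k, Module.Projective R (L k)) :
    Module.Projective R M :=
  Module.Projective.of_equiv (LinearEquiv.ofBijective (DirectSum.coeLinearMap L) hL)

theorem projective_of_flat_of_isMittagLeffler_of_isInternal {M : Type u} [AddCommGroup M] [Module R M]
    [Module.Flat R M] (hM : CAlg.IsMittagLeffler R M) {κ : Type u} {L : κ → Submodule R M}
    (hL : DirectSum.IsInternal L) (hc : ∀ k, CAlg.IsCountablyGenerated R (L k)) :
    Module.Projective R M := by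
  refine projective_of_isInternal hL fun k => ?_
  let E := LinearEquiv.ofBijective (DirectSum.coeLinearMap L) hL
  let p : M →ₗ[R] L k := DirectSum.component R κ (fun k => L k) k ∘ₗ E.symm.toLinearMap
  have hp : p ∘ₗ (L k).subtype = LinearMap.id := LinearMap.ext fun a => by
    have : E.symm (a : M) = DirectSum.lof R κ (fun k => L k) k a := by
      rw [LinearEquiv.symm_apply_eq]; exact (DirectSum.coeLinearMap_of L k a).symm
    simp [p, this]
  have : Module.Flat R (L k) := Module.Flat.of_retract (L k).subtype p hp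
  refine projective_of_countablyGenerated ?_ (hc k)
  intro ι Q _ _
  refine (injective_iff_map_eq_zero _).mpr fun x hx => ?_
  have h0 : (L k).subtype.rTensor (∀ j, Q j) x = 0 :=
    (injective_iff_map_eq_zero _).mp (hM ι Q) _ <| funext fun j => by
      rw [CAlgBasics.piRightHom_rTensor, hx]; simp
  have := congrArg (p.rTensor (∀ j, Q j)) h0
  rw [← LinearMap.rTensor_comp_apply, hp, LinearMap.rTensor_id, map_zero] at this
  simpa using this

variable (S : Type u) [CommRing S] [Algebra R S] {M : Type u} [AddCommGroup M] [Module R M]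

theorem baseChange_le_iff (L : Submodule R M) (T : Submodule S (S ⊗[R] M)) :
    L.baseChange S ≤ T ↔ ∀ m ∈ L, (1 : S) ⊗ₜ[R] m ∈ T := by
  rw [baseChange_eq_span, span_le]
  exact ⟨fun h m hm => h ⟨m, hm, rfl⟩, fun h _ ⟨m, hm, he⟩ => he ▸ h m hm⟩

theorem one_tmul_mem_baseChange {L : Submodule R M} {m : M} (hm : m ∈ L) :
    (1 : S) ⊗ₜ[R] m ∈ L.baseChange S :=
  (baseChange_le_iff S L _).mp le_rfl m hm

theorem baseChange_mono {L L' : Submodule R M} (h : L ≤ L') : L.baseChange S ≤ L'.baseChange S :=
  (baseChange_le_iff S L _).mpr fun _ hm => one_tmul_mem_baseChange S (h hm)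

theorem baseChange_sSup (𝓛 : Set (Submodule R M)) :
    (sSup 𝓛).baseChange S = ⨆ L ∈ 𝓛, L.baseChange S := by
  refine le_antisymm ((baseChange_le_iff S _ _).mpr fun m hm => ?_)
    (iSup₂_le fun L hL => baseChange_mono S (le_sSup hL))
  have : sSup 𝓛 ≤ ((⨆ L ∈ 𝓛, L.baseChange S).restrictScalars R).comap (TensorProduct.mk R S M 1) :=
    sSup_le fun L hL x hx => mem_iSup_of_mem L (mem_iSup_of_mem hL (one_tmul_mem_baseChange S hx))
  exact this hm

theorem baseChange_sup (L L' : Submodule R M) :
    (L ⊔ L').baseChange S = L.baseChange S ⊔ L'.baseChange S := by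
  have := baseChange_sSup S ({L, L'} : Set (Submodule R M))
  rwa [sSup_pair, iSup_pair] at this

theorem baseChange_eq_range (L : Submodule R M) :
    L.baseChange S = LinearMap.range (L.subtype.baseChange S) := rfl

theorem exists_finset_mem_baseChange (x : S ⊗[R] M) :
    ∃ s : Finset M, x ∈ (span R (s : Set M)).baseChange S := by
  induction x with
  | zero => exact ⟨∅, zero_mem _⟩
  | tmul a m =>
    refine ⟨{m}, ?_⟩
    rw [← mul_one a, ← smul_eq_mul, ← TensorProduct.smul_tmul']
    exact smul_mem _ _ (one_tmul_mem_baseChange S (subset_span (Finset.mem_singleton_self m)))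
  | add a b ha hb =>
    obtain ⟨s, hs⟩ := ha
    obtain ⟨t, ht⟩ := hb
    exact ⟨s ∪ t, add_mem (baseChange_mono S (span_mono (by simp)) hs)
      (baseChange_mono S (span_mono (by simp)) ht)⟩

variable {κ : Type u} (N : κ → Submodule S (S ⊗[R] M))

theorem exists_closure_baseChange (hN : DirectSum.IsInternal N) (hc : ∀ k, CG (N k)) (k₀ : κ) :
    ∃ (C : Set κ) (s : Set M), s.Countable ∧ k₀ ∈ C ∧ (span R s).baseChange S = part N C := by
  choose g hg hgspan using hc
  choose G hG using fun x : S ⊗[R] M => exists_finset_mem_baseChange S x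
  choose F hF using fun m : M => exists_countable_finset N hN ((1 : S) ⊗ₜ[R] m)
  let t : κ → Set M := fun k => ⋃ x ∈ g k, (G x : Set M)
  have ht : ∀ k, (t k).Countable := fun k => (hg k).biUnion fun x _ => (G x).countable_toSet
  have hNt : ∀ k, N k ≤ (span R (t k)).baseChange S := fun k => by
    rw [← hgspan k, span_le]
    exact fun x hx => baseChange_mono S (span_mono (Set.subset_biUnion_of_mem (u := fun x => (G x : Set M)) hx)) (hG x)
  let step : Set κ → Set κ := fun C => C ∪ ⋃ k ∈ C, ⋃ m ∈ t k, (F m : Set κ)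
  let C : ℕ → Set κ := Nat.rec {k₀} fun _ D => step D
  have hC : ∀ n, (C n).Countable := by
    intro n
    induction n with
    | zero => exact Set.countable_singleton _
    | succ n ih => exact ih.union (ih.biUnion fun k _ => (ht k).biUnion fun m _ => (F m).countable_toSet)
  refine ⟨⋃ n, C n, ⋃ k ∈ ⋃ n, C n, t k, (Set.countable_iUnion hC).biUnion fun k _ => ht k,
    Set.mem_iUnion.mpr ⟨0, rfl⟩, le_antisymm ?_ ?_⟩
  · rw [baseChange_span, span_le]
    rintro _ ⟨m, hm, rfl⟩
    obtain ⟨k, hk, hmk⟩ := Set.mem_iUnion₂.mp hm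
    obtain ⟨n, hn⟩ := Set.mem_iUnion.mp hk
    refine part_mono N ?_ (hF m)
    intro j hj
    exact Set.mem_iUnion.mpr ⟨n + 1, Or.inr (Set.mem_iUnion₂.mpr ⟨k, hn, Set.mem_iUnion₂.mpr ⟨m, hmk, hj⟩⟩)⟩
  · exact iSup₂_le fun k hk => (hNt k).trans (baseChange_mono S (span_mono (Set.subset_biUnion_of_mem hk)))

variable [Module.FaithfullyFlat R S]

/-- The step of the descent: the new countably generated piece. -/
theorem exists_complement [Module.Projective S (S ⊗[R] M)] (hN : DirectSum.IsInternal N)
    {J C : Set κ} {s : Set M} (hs : s.Countable) {M' : Submodule R M} (hM' : M'.baseChange S = part N J)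
    (hC : (span R s).baseChange S = part N C) :
    ∃ L : Submodule R M, CG L ∧ Module.Projective R L ∧ Disjoint L M' ∧ L ⊔ M' = M' ⊔ span R s := by
  let M'' := M' ⊔ span R s
  let Q : Submodule R (M ⧸ M') := M''.map M'.mkQ
  let q : M'' →ₗ[R] Q := (M'.mkQ ∘ₗ M''.subtype).codRestrict Q fun x => ⟨x, x.2, rfl⟩
  have hq : Function.Surjective q := by
    rintro ⟨_, x, hx, rfl⟩
    exact ⟨⟨x, hx⟩, Subtype.ext rfl⟩
  have hM'' : M''.baseChange S = part N (J ∪ C) := by rw [baseChange_sup, hM', hC, part_union]
  obtain ⟨πJ, hπJmem, hπJ⟩ := exists_proj N hN J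
  obtain ⟨π, hπmem, hπ⟩ := exists_proj N hN (J ∪ C)
  have hinj : ∀ {X Y : Type u} [AddCommGroup X] [Module R X] [AddCommGroup Y] [Module R Y]
      (f : X →ₗ[R] Y), Function.Injective f → Function.Injective (f.baseChange S) :=
    fun f hf => Module.Flat.lTensor_preserves_injective_linearMap (M := S) f hf
  have hexact : Function.Exact (M'.subtype.baseChange S) (M'.mkQ.baseChange S) :=
    lTensor_exact S (LinearMap.exact_subtype_mkQ M') M'.mkQ_surjective
  have hsurj : Function.Surjective (M'.mkQ.baseChange S) := LinearMap.lTensor_surjective S M'.mkQ_surjective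
  have hkill : ∀ y ∈ part N J, M'.mkQ.baseChange S y = 0 := fun y hy => by
    rw [← hM', baseChange_eq_range] at hy
    exact (hexact y).mpr hy
  have hle : LinearMap.ker (M'.mkQ.baseChange S) ≤ LinearMap.ker (LinearMap.id - πJ) := fun y hy => by
    have hy' : y ∈ part N J := by
      rw [← hM', baseChange_eq_range]; exact (hexact y).mp hy
    rw [LinearMap.mem_ker, LinearMap.sub_apply, LinearMap.id_apply, hπJ y hy', sub_self]
  let γ : S ⊗[R] (M ⧸ M') →ₗ[S] S ⊗[R] M :=
    (LinearMap.ker (M'.mkQ.baseChange S)).liftQ (LinearMap.id - πJ) hle ∘ₗ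
      (LinearMap.quotKerEquivOfSurjective _ hsurj).symm.toLinearMap
  have hγ : ∀ y, γ (M'.mkQ.baseChange S y) = y - πJ y := fun y => by
    simp only [γ, LinearMap.coe_comp, LinearEquiv.coe_coe, Function.comp_apply]
    have : (LinearMap.quotKerEquivOfSurjective _ hsurj).symm (M'.mkQ.baseChange S y) =
        (LinearMap.ker (M'.mkQ.baseChange S)).mkQ y :=
      (LinearEquiv.symm_apply_eq _).mpr rfl
    rw [this]; rfl
  let e : S ⊗[R] M'' ≃ₗ[S] M''.baseChange S :=
    LinearEquiv.ofBijective (M''.toBaseChange S)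
      ⟨fun a b hab => hinj _ M''.injective_subtype (congrArg Subtype.val hab), M''.toBaseChange_surjective S⟩
  let r : S ⊗[R] M →ₗ[S] S ⊗[R] Q :=
    q.baseChange S ∘ₗ e.symm.toLinearMap ∘ₗ π.codRestrict (M''.baseChange S) fun x => hM''.symm ▸ hπmem x
  have hcomm : ∀ x : S ⊗[R] M'',
      Q.subtype.baseChange S (q.baseChange S x) = M'.mkQ.baseChange S (M''.subtype.baseChange S x) := fun x => by
    rw [← LinearMap.comp_apply, ← LinearMap.baseChange_comp, ← LinearMap.comp_apply, ← LinearMap.baseChange_comp]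
    rfl
  have hr : ∀ w, Q.subtype.baseChange S (r w) = M'.mkQ.baseChange S (π w) := fun w => by
    simp only [r, LinearMap.coe_comp, LinearEquiv.coe_coe, Function.comp_apply]
    rw [hcomm]
    congr 1
    exact congrArg Subtype.val (e.apply_symm_apply ⟨π w, hM''.symm ▸ hπmem w⟩)
  have hsplit : r ∘ₗ (γ ∘ₗ Q.subtype.baseChange S) = LinearMap.id := by
    refine LinearMap.ext fun z => hinj _ Q.injective_subtype ?_
    obtain ⟨x, rfl⟩ := LinearMap.lTensor_surjective S hq z
    change Q.subtype.baseChange S (r (γ (Q.subtype.baseChange S (q.baseChange S x)))) =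
      Q.subtype.baseChange S (q.baseChange S x)
    rw [hr, hcomm, hγ]
    have hy : M''.subtype.baseChange S x ∈ part N (J ∪ C) := by
      rw [← hM'', baseChange_eq_range]; exact ⟨x, rfl⟩
    rw [hπ _ (sub_mem hy (part_mono N Set.subset_union_left (hπJmem _))), map_sub,
      hkill _ (hπJmem _), sub_zero]
  have hproj : Module.Projective S (S ⊗[R] Q) := Module.Projective.of_split _ r hsplit
  have : Module.Flat R Q := Module.Flat.of_flat_tensorProduct R Q S
  have hQc : CG Q := by
    refine ⟨M'.mkQ '' s, hs.image _, ?_⟩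
    show _ = (M' ⊔ span R s).map M'.mkQ
    rw [Submodule.map_sup, ← map_span, show M'.map M'.mkQ = ⊥ from by
      rw [_root_.eq_bot_iff]; rintro _ ⟨x, hx, rfl⟩; exact (Submodule.Quotient.mk_eq_zero _).mpr hx, bot_sup_eq]
  have hQ : Module.Projective R Q :=
    projective_of_countablyGenerated (S0586.result R S Q (isMittagLeffler_of_projective _))
      (isCountablyGenerated_coe hQc)
  obtain ⟨σ, hσ⟩ := Module.projective_lifting_property q LinearMap.id hq
  have hσ' : ∀ z : Q, M'.mkQ (σ z : M) = (z : M ⧸ M') := fun z => congrArg Subtype.val (LinearMap.congr_fun hσ z)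
  let f : Q →ₗ[R] M := M''.subtype ∘ₗ σ
  have hf : Function.Injective f := fun a b hab => Subtype.ext (by rw [← hσ' a, ← hσ' b]; exact congrArg _ hab)
  refine ⟨LinearMap.range f, ?_, Module.Projective.of_equiv (LinearEquiv.ofInjective f hf), ?_, ?_⟩
  · obtain ⟨t, ht, htspan⟩ := isCountablyGenerated_coe hQc
    exact ⟨f '' t, ht.image _, by rw [← map_span, htspan, Submodule.map_top]⟩
  · rw [disjoint_def]
    rintro _ ⟨z, rfl⟩ hz
    have : (z : M ⧸ M') = 0 := by
      rw [← hσ' z]; exact (Submodule.Quotient.mk_eq_zero _).mpr hz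
    rw [show z = 0 from Subtype.ext this, map_zero]
  · refine le_antisymm (sup_le ?_ le_sup_left) fun m hm => ?_
    · rintro _ ⟨z, rfl⟩; exact (σ z).2
    · let z : Q := q ⟨m, hm⟩
      rw [← add_sub_cancel (f z) m]
      refine add_mem (mem_sup_left ⟨z, rfl⟩) (mem_sup_right ?_)
      rw [← Submodule.Quotient.mk_eq_zero, ← Submodule.mkQ_apply, map_sub, sub_eq_zero]
      exact (hσ' z).symm

/-- The states of the descent. -/
def Good (p : Set κ × Set (Submodule R M)) : Prop :=
  (∀ L ∈ p.2, Module.Projective R L) ∧ sSupIndep p.2 ∧ (sSup p.2).baseChange S = part N p.1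

/-- Projectivity descends along faithfully flat ring maps. -/
theorem projective_of_baseChange [Module.Projective S (S ⊗[R] M)] : Module.Projective R M := by
  obtain ⟨κ, N, hN, hNc⟩ := exists_isInternal_of_projective (R := S) (S ⊗[R] M)
  have hc : ∀ k, CG (N k) := fun k => by
    obtain ⟨t, ht, hspan⟩ := hNc k
    exact ⟨(N k).subtype '' t, ht.image _, by rw [← map_span, hspan, Submodule.map_top, range_subtype]⟩
  obtain ⟨p, hp, hmax⟩ : ∃ p, Maximal (· ∈ {p | Good S N p}) p := by
    refine zorn_le₀ _ fun c hcs hchain => ?_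
    refine ⟨(⋃ p ∈ c, p.1, ⋃ p ∈ c, p.2), ⟨?_, ?_, ?_⟩, fun p hp => ⟨?_, ?_⟩⟩
    · intro L hL
      obtain ⟨q, hq, hLq⟩ := Set.mem_iUnion₂.mp hL
      exact (hcs hq).1 L hLq
    · show sSupIndep (⋃ p ∈ c, p.2)
      rw [Set.biUnion_eq_iUnion]
      exact sSupIndep_iUnion_of_directed
        (fun a b => (hchain.directed a b).imp fun z hz => ⟨hz.1.2, hz.2.2⟩)
        fun q => (hcs q.2).2.1
    · refine le_antisymm ?_ ?_
      · rw [baseChange_sSup]
        refine iSup₂_le fun L hL => ?_
        obtain ⟨q, hq, hLq⟩ := Set.mem_iUnion₂.mp hL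
        exact (baseChange_mono S (le_sSup hLq)).trans ((hcs hq).2.2.le.trans
          (part_mono N (Set.subset_biUnion_of_mem (u := fun p : Set κ × Set (Submodule R M) => p.1) hq)))
      · refine iSup₂_le fun k hk => ?_
        obtain ⟨q, hq, hkq⟩ := Set.mem_iUnion₂.mp hk
        exact (le_iSup₂_of_le k hkq le_rfl : N k ≤ part N q.1).trans ((hcs hq).2.2.ge.trans
          (baseChange_mono S (sSup_le_sSup
            (Set.subset_biUnion_of_mem (u := fun p : Set κ × Set (Submodule R M) => p.2) hq))))
    · exact Set.subset_biUnion_of_mem (u := fun p : Set κ × Set (Submodule R M) => p.1) hp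
    · exact Set.subset_biUnion_of_mem (u := fun p : Set κ × Set (Submodule R M) => p.2) hp
  obtain ⟨J, 𝓛⟩ := p
  obtain ⟨hproj, hind, hsup⟩ := hp
  have hJ : J = Set.univ := by
    by_contra hne
    obtain ⟨k₀, hk₀⟩ := (Set.ne_univ_iff_exists_notMem J).mp hne
    obtain ⟨C, s, hs, hkC, hC⟩ := exists_closure_baseChange S N hN hc k₀
    obtain ⟨L, -, hLp, hdisj, hLsup⟩ := exists_complement S N hN hs hsup hC
    have hgood : Good S N (J ∪ C, insert L 𝓛) := by
      refine ⟨?_, ?_, ?_⟩
      · rintro K (rfl | hK)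
        · exact hLp
        · exact hproj K hK
      · intro a ha
        by_cases hLmem : L ∈ 𝓛
        · rw [Set.insert_eq_of_mem hLmem] at ha ⊢
          exact hind ha
        rcases ha with rfl | ha
        · rw [Set.insert_sdiff_of_mem _ (Set.mem_singleton _)]
          exact hdisj.mono_right (sSup_le_sSup Set.sdiff_subset)
        · have hne : L ≠ a := fun h => hLmem (h ▸ ha)
          rw [Set.insert_sdiff_of_notMem _ (by simpa using hne), sSup_insert]
          have h2 : Disjoint L (a ⊔ sSup (𝓛 \ {a})) :=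
            hdisj.mono_right (sup_le (le_sSup ha) (sSup_le_sSup Set.sdiff_subset))
          rw [sup_comm]
          exact (hind ha).disjoint_sup_right_of_disjoint_sup_left h2.symm
      · show (sSup (insert L 𝓛)).baseChange S = part N (J ∪ C)
        rw [sSup_insert, hLsup, baseChange_sup, hsup, hC, part_union]
    exact hk₀ ((hmax hgood ⟨Set.subset_union_left, Set.subset_insert _ _⟩).1 (Set.mem_union_right J hkC))
  have htop : sSup 𝓛 = ⊤ := by
    rw [← range_subtype (sSup 𝓛), LinearMap.range_eq_top]
    refine (Module.FaithfullyFlat.lTensor_surjective_iff_surjective R S _).mp ?_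
    intro y
    have hy : y ∈ (sSup 𝓛).baseChange S := by
      rw [hsup, hJ]
      show y ∈ ⨆ i ∈ Set.univ, N i
      rw [iSup_univ, hN.submodule_iSup_eq_top]
      trivial
    exact hy
  refine projective_of_isInternal (L := fun L : 𝓛 => (L : Submodule R M)) ?_ fun L => hproj _ L.2
  exact @isInternal_submodule_of_iSupIndep_of_iSup_eq_top _ _ _ (fun a b => Classical.propDecidable (a = b)) _ _ _ _
    ((sSupIndep_iff 𝓛).mp hind) (by rw [← sSup_eq_iSup', htop])

end Groth.Agent.MLProjLib
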