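import Mathlib
import Groth.Agent.MLProjLib.Descent

/-!
# Countably generated adapted submodules
-/

universe u

open TensorProduct Submodule DirectSum
open Groth.Agent.KaplanskyLib
open scoped Classical

set_option linter.style.haveILetI false

namespace Groth.Agent.MLProjLib

variable {R : Type u} [CommRing R] (S : Type u) [CommRing S] [Algebra R S] {M : Type u}
  [AddCommGroup M] [Module R M] {κ : Type u} (N : κ → Submodule S (S ⊗[R] M))

theorem exists_adapted (hN : DirectSum.IsInternal N) (hc : ∀ k, CG (N k)) (s₀ : Set M) (hs₀ : s₀.Countable) :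
    ∃ (C : Set κ) (s : Set M), s.Countable ∧ s₀ ⊆ s ∧ (span R s).baseChange S = part N C := by
  choose g hg hgspan using hc
  choose G hG using fun x : S ⊗[R] M => exists_finset_mem_baseChange S x
  choose F hF using fun m : M => exists_countable_finset N hN ((1 : S) ⊗ₜ[R] m)
  let t : κ → Set M := fun k => ⋃ x ∈ g k, (G x : Set M)
  have ht : ∀ k, (t k).Countable := fun k => (hg k).biUnion fun x _ => (G x).countable_toSet
  let step : Set κ → Set κ := fun C => C ∪ ⋃ k ∈ C, ⋃ m ∈ t k, (F m : Set κ)
  let C : ℕ → Set κ := Nat.rec (⋃ m ∈ s₀, (F m : Set κ)) fun _ D => step D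
  have hC : ∀ n, (C n).Countable := by
    intro n
    induction n with
    | zero => exact hs₀.biUnion fun m _ => (F m).countable_toSet
    | succ n ih => exact ih.union (ih.biUnion fun k _ => (ht k).biUnion fun m _ => (F m).countable_toSet)
  refine ⟨⋃ n, C n, s₀ ∪ ⋃ k ∈ ⋃ n, C n, t k,
    hs₀.union ((Set.countable_iUnion hC).biUnion fun k _ => ht k), Set.subset_union_left, le_antisymm ?_ ?_⟩
  · rw [baseChange_span, span_le]
    rintro _ ⟨m, hm | hm, rfl⟩
    · refine part_mono N ?_ (hF m)
      refine Set.Subset.trans ?_ (Set.subset_iUnion C 0)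
      show (F m : Set κ) ⊆ ⋃ m ∈ s₀, (F m : Set κ)
      exact Set.subset_biUnion_of_mem (u := fun m => (F m : Set κ)) hm
    · obtain ⟨k, hk, hmk⟩ := Set.mem_iUnion₂.mp hm
      obtain ⟨n, hn⟩ := Set.mem_iUnion.mp hk
      refine part_mono N ?_ (hF m)
      intro j hj
      exact Set.mem_iUnion.mpr ⟨n + 1, Or.inr (Set.mem_iUnion₂.mpr ⟨k, hn, Set.mem_iUnion₂.mpr ⟨m, hmk, hj⟩⟩)⟩
  · refine iSup₂_le fun k hk => ?_
    rw [← hgspan k, span_le]
    exact fun x hx => baseChange_mono S (span_mono ((Set.subset_biUnion_of_mem (u := fun x => (G x : Set M)) hx).trans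
      ((Set.subset_biUnion_of_mem (u := t) hk).trans Set.subset_union_right))) (hG x)

theorem isCountablyGenerated_of_baseChange [Module.FaithfullyFlat R S]
    (h : CAlg.IsCountablyGenerated S (S ⊗[R] M)) : CAlg.IsCountablyGenerated R M := by
  obtain ⟨g, hg, hspan⟩ := h
  choose G hG using fun x : S ⊗[R] M => exists_finset_mem_baseChange S x
  refine ⟨⋃ x ∈ g, (G x : Set M), hg.biUnion fun x _ => (G x).countable_toSet, ?_⟩
  set L := span R (⋃ x ∈ g, (G x : Set M))
  rw [← range_subtype L, LinearMap.range_eq_top]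
  refine (Module.FaithfullyFlat.lTensor_surjective_iff_surjective R S _).mp fun y => ?_
  have hy : y ∈ L.baseChange S :=
    (span_le.mpr fun x hx => baseChange_mono S (span_mono (Set.subset_biUnion_of_mem (u := fun x => (G x : Set M)) hx)) (hG x))
      (hspan ▸ Submodule.mem_top)
  exact hy

end Groth.Agent.MLProjLib
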