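import Mathlib
import Groth.Agent.Hensel.Factor
import Groth.Agent.CAlgBasics.MittagLefflerApps
import Groth.Agent.MLProjLib.Descent

/-!
# Countably generated Mittag-Leffler modules over Henselian local rings
-/

universe u

open Polynomial Submodule DirectSum
open scoped Classical

set_option linter.style.haveILetI false

namespace Groth.Agent.MLProjLib

variable {R : Type u} [CommRing R] [HenselianLocalRing R]

/-- Every element of a countably generated Mittag-Leffler module over a Henselian local ring lies in
a finitely presented direct summand. -/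
theorem exists_finitePresentation_summand_mem {M : Type u} [AddCommGroup M] [Module R M]
    (hM : CAlg.IsMittagLeffler R M) (hc : CAlg.IsCountablyGenerated R M) (x : M) :
    ∃ F Q : Submodule R M, Module.FinitePresentation R F ∧ IsCompl F Q ∧ x ∈ F := by
  have := Module.finitePresentation_of_projective R R
  obtain ⟨N, _, _, _, a, c, hac⟩ := CAlgBasics.exists_endo_factor hM hc (LinearMap.toSpanSingleton R M x)
  let g : Module.End R N := a ∘ₗ c
  let y := a x
  have hy : c y = x := by simpa [y] using LinearMap.congr_fun hac 1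
  have hgy : g y = y := show a (c y) = a x by rw [hy]
  obtain ⟨P, hPm, hP⟩ := LinearMap.exists_monic_and_aeval_eq_zero R g
  let m := IsLocalRing.maximalIdeal R
  letI : Field (R ⧸ m) := Ideal.Quotient.field m
  have : HenselianRing R m := Groth.Agent.Hensel.henselianRing_maximalIdeal_iff.2 inferInstance
  let mk := Ideal.Quotient.mk m
  have hPm' : (P.map mk).Monic := hPm.map _
  obtain ⟨h₀, hh, hX⟩ := Polynomial.exists_eq_pow_rootMultiplicity_mul_and_not_dvd (P.map mk) hPm'.ne_zero 0
  rw [map_zero, sub_zero] at hh hX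
  set r := (P.map mk).rootMultiplicity 0
  have hh₀ : h₀.Monic := (monic_X_pow r).of_mul_monic_left (hh ▸ hPm')
  have hcop : IsCoprime ((X : (R ⧸ m)[X]) ^ r) h₀ :=
    (Polynomial.prime_X.irreducible.coprime_iff_not_dvd.mpr hX).pow_left
  obtain ⟨G, H, hG, hH, hPGH, hGmap, hHmap⟩ := Groth.Agent.Hensel.exists_factor hPm (monic_X_pow r) hh₀ hcop hh
  let α := aeval (R := R) g G
  let β := aeval (R := R) g H
  have hαβ : ∀ z, α (β z) = 0 := fun z => by
    have : α * β = 0 := by rw [← map_mul, ← hPGH, hP]
    exact LinearMap.congr_fun this z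
  have hcomm : ∀ (p q : R[X]) z, aeval g p (aeval g q z) = aeval g q (aeval g p z) := fun p q z => by
    rw [← Module.End.mul_apply, ← Module.End.mul_apply, ← map_mul, ← map_mul, mul_comm]
  have hH0 : IsUnit (H.coeff 0) := by
    rw [← IsLocalRing.notMem_maximalIdeal]
    intro hmem
    apply hX
    rw [Polynomial.X_dvd_iff, ← hHmap, coeff_map]
    exact Ideal.Quotient.eq_zero_iff_mem.mpr hmem
  have hG1 : IsUnit (G.eval 1) := by
    rw [← IsLocalRing.notMem_maximalIdeal]
    intro hmem
    have h1 : mk (G.eval 1) = 1 := by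
      rw [← Polynomial.eval₂_at_apply, map_one, ← Polynomial.eval_map, hGmap]
      simp
    rw [(Ideal.Quotient.eq_zero_iff_mem (I := m)).mpr hmem] at h1
    exact zero_ne_one h1
  obtain ⟨u, v, huv⟩ := hcop
  obtain ⟨U, rfl⟩ := Polynomial.map_surjective mk Ideal.Quotient.mk_surjective u
  obtain ⟨V, rfl⟩ := Polynomial.map_surjective mk Ideal.Quotient.mk_surjective v
  let T := aeval (R := R) g (U * G + V * H)
  have hcoeff : ∀ i, (1 - (U * G + V * H)).coeff i ∈ m := fun i => by
    rw [← Ideal.Quotient.eq_zero_iff_mem, ← Polynomial.coeff_map]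
    simp only [Polynomial.map_sub, Polynomial.map_one, Polynomial.map_add, Polynomial.map_mul]
    rw [show G.map mk = X ^ r from hGmap, show H.map mk = h₀ from hHmap, huv, sub_self, coeff_zero]
  have hTsurj : Function.Surjective T := by
    rw [← LinearMap.range_eq_top]
    refine eq_top_iff.mpr (Submodule.le_of_le_smul_of_le_jacobson_bot (I := m) Module.Finite.fg_top
      (IsLocalRing.maximalIdeal_le_jacobson _) ?_)
    intro z _
    rw [← add_sub_cancel (T z) z]
    refine add_mem (mem_sup_left ⟨z, rfl⟩) (mem_sup_right ?_)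
    have : z - T z = aeval g (1 - (U * G + V * H)) z := by simp [T]
    rw [this, aeval_eq_sum_range, LinearMap.sum_apply]
    refine sum_mem fun i _ => ?_
    rw [LinearMap.smul_apply]
    exact smul_mem_smul (hcoeff i) Submodule.mem_top
  have hTbij : Function.Bijective T := ⟨OrzechProperty.injective_of_surjective_endomorphism T hTsurj, hTsurj⟩
  let Te := LinearEquiv.ofBijective T hTbij
  let F₀ : Submodule R N := LinearMap.ker β
  let e₀ : Module.End R N := Te.symm.toLinearMap ∘ₗ aeval g (U * G)
  have he₀mem : ∀ z, e₀ z ∈ F₀ := fun z => by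
    rw [LinearMap.mem_ker]
    apply hTbij.1
    rw [map_zero]
    show aeval g _ (aeval g H (e₀ z)) = 0
    rw [hcomm]
    show β (T (Te.symm (aeval g (U * G) z))) = 0
    rw [show T (Te.symm (aeval g (U * G) z)) = aeval g (U * G) z from Te.apply_symm_apply _]
    show aeval g H (aeval g (U * G) z) = 0
    rw [map_mul, Module.End.mul_apply, hcomm H U, hcomm H G]
    show aeval g U (α (β z)) = 0
    rw [hαβ, map_zero]
  have he₀ : ∀ z ∈ F₀, e₀ z = z := fun z hz => by
    rw [LinearMap.mem_ker] at hz
    show Te.symm (aeval g (U * G) z) = z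
    rw [LinearEquiv.symm_apply_eq]
    show aeval g (U * G) z = aeval g (U * G + V * H) z
    rw [map_add, LinearMap.add_apply, map_mul (aeval g) V H, Module.End.mul_apply,
      show aeval g H z = 0 from hz, map_zero, add_zero]
  have hyF : y ∈ F₀ := by
    rw [LinearMap.mem_ker]
    have h1 : α (β y) = G.eval 1 • β y := by
      rw [show α (β y) = β (α y) from hcomm G H y, ← map_smul]
      congr 1
      suffices ∀ p : R[X], aeval g p y = p.eval 1 • y from this G
      intro p
      induction p using Polynomial.induction_on' with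
      | add p q hp hq => rw [map_add, LinearMap.add_apply, hp, hq, eval_add, add_smul]
      | monomial n r =>
        have hpow : (g ^ n) y = y := by
          induction n with
          | zero => simp
          | succ n ih => rw [pow_succ, Module.End.mul_apply, hgy, ih]
        simp [aeval_monomial, hpow]
    rw [hαβ] at h1
    exact (IsUnit.smul_eq_zero hG1).mp h1.symm
  let hinv : Module.End R N := -(((hH0.unit⁻¹ : Rˣ) : R) • aeval g H.divX)
  have hhinv : ∀ z ∈ F₀, hinv (g z) = z := fun z hz => by
    rw [LinearMap.mem_ker] at hz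
    have hH' : aeval g H z = aeval g H.divX (g z) + H.coeff 0 • z := by
      conv_lhs => rw [← H.divX_mul_X_add]
      simp
    rw [show aeval g H z = 0 from hz] at hH'
    rw [eq_comm, add_eq_zero_iff_eq_neg] at hH'
    show -(((hH0.unit⁻¹ : Rˣ) : R) • aeval g H.divX (g z)) = z
    rw [hH', smul_neg, neg_neg, smul_smul, IsUnit.val_inv_mul, one_smul]
  have hgF : ∀ z ∈ F₀, g z ∈ F₀ := fun z hz => by
    rw [LinearMap.mem_ker] at hz ⊢
    have := hcomm H X z
    rw [aeval_X] at this
    rw [show β (g z) = aeval g H (g z) from rfl, this, show aeval g H z = 0 from hz, map_zero]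
  have hfp : Module.FinitePresentation R F₀ := by
    refine Module.finitePresentation_of_surjective (e₀.codRestrict F₀ he₀mem)
      (fun z => ⟨z, Subtype.ext (he₀ _ z.2)⟩) ?_
    have : LinearMap.ker (e₀.codRestrict F₀ he₀mem) = LinearMap.range (LinearMap.id - e₀) := by
      rw [LinearMap.ker_codRestrict]
      ext z
      constructor
      · intro hz; exact ⟨z, by rw [LinearMap.sub_apply, LinearMap.mem_ker.mp hz]; simp⟩
      · rintro ⟨w, rfl⟩
        rw [LinearMap.mem_ker, LinearMap.sub_apply, LinearMap.id_apply, map_sub, he₀ _ (he₀mem w), sub_self]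
    rw [this, LinearMap.range_eq_map]
    exact Module.Finite.fg_top.map _
  let i : F₀ →ₗ[R] M := c ∘ₗ F₀.subtype
  let ρ : M →ₗ[R] F₀ := e₀.codRestrict F₀ he₀mem ∘ₗ hinv ∘ₗ e₀ ∘ₗ a
  have hρ : ∀ z, ρ (i z) = z := fun z => Subtype.ext <| by
    show e₀ (hinv (e₀ (g z))) = z
    rw [he₀ _ (hgF _ z.2), hhinv _ z.2, he₀ _ z.2]
  have hi : Function.Injective i := fun p q hpq => by rw [← hρ p, hpq, hρ]
  refine ⟨LinearMap.range i, LinearMap.ker ρ, Module.FinitePresentation.of_equiv (LinearEquiv.ofInjective i hi),
    ⟨disjoint_def.mpr ?_, codisjoint_iff.mpr (eq_top_iff'.mpr fun z => mem_sup.mpr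
      ⟨i (ρ z), ⟨_, rfl⟩, z - i (ρ z), by rw [LinearMap.mem_ker, map_sub, hρ, sub_self], add_sub_cancel _ _⟩)⟩,
    ⟨⟨y, hyF⟩, hy⟩⟩
  rintro _ ⟨z, rfl⟩ hz
  rw [LinearMap.mem_ker, hρ] at hz
  rw [hz, map_zero]

/-- A countably generated Mittag-Leffler module over a Henselian local ring is a direct sum of
finitely presented modules. -/
theorem exists_isInternal_finitePresentation (M : Type u) [AddCommGroup M] [Module R M]
    (hc : CAlg.IsCountablyGenerated R M) (hM : CAlg.IsMittagLeffler R M) :
    ∃ (ι : Type u) (N : ι → Submodule R M), DirectSum.IsInternal N ∧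
      ∀ i, Module.FinitePresentation R (N i) := by
  obtain ⟨s, hs, hspan⟩ := hc
  obtain ⟨x, hx⟩ := (hs.insert 0).exists_eq_range (Set.insert_nonempty _ _)
  let St := {B : Set (Submodule R M) // (∀ L ∈ B, Module.FinitePresentation R L) ∧ sSupIndep B ∧
    ∃ Q, IsCompl (sSup B) Q}
  have step : ∀ (B : St) (z : M), ∃ B' : St, B.1 ⊆ B'.1 ∧ z ∈ sSup B'.1 := by
    rintro ⟨B, hB, hind, Q, hQ⟩ z
    let p : M →ₗ[R] Q := Q.projectionOnto _ hQ.symm
    have hp : ∀ q : Q, p q = q := fun q => projectionOnto_apply_left hQ.symm q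
    have hQc : CAlg.IsCountablyGenerated R Q := ⟨p '' s, hs.image p, by
      rw [← map_span, hspan, Submodule.map_top]
      exact LinearMap.range_eq_top.mpr fun q => ⟨q, hp q⟩⟩
    have hQML : CAlg.IsMittagLeffler R Q := by
      intro ι N _ _
      refine (injective_iff_map_eq_zero _).mpr fun w hw => ?_
      have h0 : Q.subtype.rTensor (∀ j, N j) w = 0 :=
        (injective_iff_map_eq_zero _).mp (hM ι N) _ <| funext fun j => by
          rw [CAlgBasics.piRightHom_rTensor, hw]; simp
      have := congrArg (p.rTensor (∀ j, N j)) h0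
      rw [← LinearMap.rTensor_comp_apply, show p ∘ₗ Q.subtype = LinearMap.id from LinearMap.ext hp,
        LinearMap.rTensor_id, map_zero] at this
      simpa using this
    obtain ⟨F, Q', hF, hQ', hzF⟩ := exists_finitePresentation_summand_mem hQML hQc (p z)
    let L := F.map Q.subtype
    have hsup : L ⊔ Q'.map Q.subtype = Q := by
      rw [← Submodule.map_sup, hQ'.sup_eq_top, Submodule.map_top, range_subtype]
    have hdisj : Disjoint L (sSup B) := (hQ.disjoint.mono_right (map_subtype_le _ _)).symm
    refine ⟨⟨insert L B, ?_, ?_, Q'.map Q.subtype, ?_, ?_⟩, Set.subset_insert _ _, ?_⟩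
    · rintro K (rfl | hK)
      · exact Module.FinitePresentation.of_equiv (Submodule.equivMapOfInjective _ Q.injective_subtype F)
      · exact hB K hK
    · intro a ha
      by_cases hLmem : L ∈ B
      · rw [Set.insert_eq_of_mem hLmem] at ha ⊢
        exact hind ha
      rcases ha with rfl | ha
      · rw [Set.insert_sdiff_of_mem _ (Set.mem_singleton _)]
        exact hdisj.mono_right (sSup_le_sSup Set.sdiff_subset)
      · have hne : L ≠ a := fun h => hLmem (h ▸ ha)
        rw [Set.insert_sdiff_of_notMem _ (by simpa using hne), sSup_insert]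
        have h2 : Disjoint L (a ⊔ sSup (B \ {a})) :=
          hdisj.mono_right (sup_le (le_sSup ha) (sSup_le_sSup Set.sdiff_subset))
        rw [sup_comm]
        exact (hind ha).disjoint_sup_right_of_disjoint_sup_left h2.symm
    · rw [sSup_insert, sup_comm]
      refine Disjoint.disjoint_sup_left_of_disjoint_sup_right ?_ ?_
      · exact disjoint_map Q.injective_subtype hQ'.disjoint
      · rw [hsup]; exact hQ.disjoint
    · rw [codisjoint_iff, sSup_insert, sup_comm L, sup_assoc, hsup, hQ.sup_eq_top]
    · show z ∈ sSup (insert L B)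
      rw [sSup_insert, mem_sup]
      exact ⟨p z, mem_map_of_mem hzF, (sSup B).projectionOnto Q hQ z, SetLike.coe_mem _,
        by rw [add_comm]; exact projection_add_projection_eq_self hQ z⟩
  choose next hsub hmem using step
  let B : ℕ → St := Nat.rec ⟨∅, by simp, sSupIndep_empty, ⊤, by rw [sSup_empty]; exact isCompl_bot_top⟩
    fun n D => next D (x n)
  have hmono : Monotone fun n => (B n).1 := monotone_nat_of_le_succ fun n => hsub _ _
  have hind : sSupIndep (⋃ n, (B n).1) :=
    sSupIndep_iUnion_of_directed hmono.directed_le fun n => (B n).2.2.1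
  have htop : sSup (⋃ n, (B n).1) = ⊤ := by
    rw [eq_top_iff, ← hspan, span_le]
    intro z hz
    obtain ⟨n, rfl⟩ : z ∈ Set.range x := hx ▸ Set.mem_insert_of_mem _ hz
    exact sSup_le_sSup (Set.subset_iUnion (fun n => (B n).1) (n + 1)) (hmem (B n) (x n))
  refine ⟨↥(⋃ n, (B n).1), fun L => (L : Submodule R M), ?_, fun L => ?_⟩
  · exact @isInternal_submodule_of_iSupIndep_of_iSup_eq_top _ _ _ (fun a b => Classical.propDecidable (a = b)) _ _ _ _
      ((sSupIndep_iff _).mp hind) (by rw [← sSup_eq_iSup', htop])
  · obtain ⟨n, hn⟩ := Set.mem_iUnion.mp L.2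
    exact (B n).2.1 _ hn

end Groth.Agent.MLProjLib
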